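import Groth.Agent.LC.Matlis
import Groth.Agent.LC.GorHull
import Groth.Agent.LC.CohTorsion
import Groth.Agent.LC.GorQuot

/-!
# Lengths of annihilators in an Artinian Gorenstein local ring
-/

set_option autoImplicit false
set_option linter.style.haveILetI false

universe u

namespace Groth.Agent.LinkLen6

open IsLocalRing

variable (Q : Type u) [CommRing Q] [IsLocalRing Q] [LocCoh.IsGorensteinLocalRing Q] [IsArtinianRing Q]

/-- The double dual statement: duality into the ring preserves lengths. -/
theorem length_dual_self (M : Type u) [AddCommGroup M] [Module Q M] [Module.Finite Q M] :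
    Module.length Q (M →ₗ[Q] Q) = Module.length Q M := by
  have hd : ringKrullDim Q = (0 : ℕ) := by
    exact_mod_cast (ringKrullDimZero_iff_ringKrullDim_eq_zero.1 inferInstance)
  obtain ⟨g, hg⟩ := LC.isInjectiveHull_H_gorenstein (R := Q) hd
  have htop : DRing.torsionSub (maximalIdeal Q) (ModuleCat.of Q Q) = ⊤ := by
    obtain ⟨N, hN⟩ : IsNilpotent (maximalIdeal Q) :=
      (isArtinianRing_iff_isNilpotent_maximalIdeal Q).1 inferInstance
    refine eq_top_iff.2 fun x _ => ⟨N, fun a ha => ?_⟩
    rw [hN, Ideal.zero_eq_bot, Ideal.mem_bot] at ha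
    rw [ha, zero_smul]
  let e : (localCohomology (maximalIdeal Q) 0).obj (ModuleCat.of Q Q) ≃ₗ[Q] Q :=
    ((LC.H0Equiv (maximalIdeal Q) (ModuleCat.of Q Q)).trans (LinearEquiv.ofEq _ _ htop)).trans
      Submodule.topEquiv
  rw [← (LinearEquiv.arrowCongr (LinearEquiv.refl Q M) e).length_eq]
  exact LC.length_dual hg M (isFiniteLength_iff_isNoetherian_isArtinian.2 ⟨inferInstance, inferInstance⟩)

/-- The annihilator of `X` has the length of `Q ⧸ X`. -/
theorem length_ann (X : Ideal Q) :
    Module.length Q ((⊥ : Ideal Q).colon (X : Set Q)) = Module.length Q (Q ⧸ X) := by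
  rw [← length_dual_self Q (Q ⧸ X)]
  refine (LinearEquiv.ofBijective
    ({ toFun := fun φ => ⟨φ (Ideal.Quotient.mk X 1), Submodule.mem_colon.2 fun x hx => by
          rw [Submodule.mem_bot, smul_eq_mul, mul_comm, ← smul_eq_mul, ← map_smul]
          rw [show x • Ideal.Quotient.mk X 1 = (0 : Q ⧸ X) from Ideal.Quotient.eq_zero_iff_mem.2
            (by simpa using hx), map_zero]⟩
       map_add' := fun _ _ => rfl
       map_smul' := fun _ _ => rfl } : ((Q ⧸ X) →ₗ[Q] Q) →ₗ[Q] ((⊥ : Ideal Q).colon (X : Set Q)))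
    ⟨fun φ ψ h => ?_, fun w => ?_⟩).length_eq.symm
  · refine Submodule.linearMap_qext _ (LinearMap.ext_ring ?_)
    exact congrArg Subtype.val h
  · refine ⟨Submodule.liftQ X (LinearMap.toSpanSingleton Q Q w.1) fun x hx => ?_, Subtype.ext ?_⟩
    · rw [LinearMap.mem_ker, LinearMap.toSpanSingleton_apply, smul_eq_mul, mul_comm, ← smul_eq_mul]
      exact (Submodule.mem_bot Q).1 (Submodule.mem_colon.1 w.2 x hx)
    · exact (one_smul Q w.1)

/-- The double annihilator of an ideal is the ideal. -/
theorem ann_ann (X : Ideal Q) :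
    (⊥ : Ideal Q).colon ((⊥ : Ideal Q).colon (X : Set Q) : Set Q) = X := by
  let A := (⊥ : Ideal Q).colon (X : Set Q)
  have hle : X ≤ (⊥ : Ideal Q).colon (A : Set Q) := fun x hx => Submodule.mem_colon.2 fun a ha => by
    rw [smul_eq_mul, mul_comm, ← smul_eq_mul]
    exact Submodule.mem_colon.1 ha x hx
  have h1 := Module.length_eq_add_of_exact A.subtype A.mkQ A.subtype_injective A.mkQ_surjective
    (LinearMap.exact_subtype_mkQ A)
  have h2 := Module.length_eq_add_of_exact X.subtype X.mkQ X.subtype_injective X.mkQ_surjective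
    (LinearMap.exact_subtype_mkQ X)
  rw [h2, length_ann, add_comm] at h1
  have h4 : Module.length Q ((⊥ : Ideal Q).colon (A : Set Q)) = Module.length Q X := by
    rw [length_ann]
    exact (WithTop.add_left_cancel Module.length_ne_top h1).symm
  by_contra hne
  have hlt : X < (⊥ : Ideal Q).colon (A : Set Q) := lt_of_le_of_ne hle (Ne.symm hne)
  have := Submodule.height_strictMono hlt
  rw [← Module.length_submodule, ← Module.length_submodule] at this
  exact this.ne (WithBot.coe_injective (by rw [h4]))

end Groth.Agent.LinkLen6
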