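import Groth.Agent.LinkLen6.Duality
import Groth.Agent.CoefLib.KerProjective
import Groth.Agent.CotTLib.CI
import Groth.Agent.GDepth6.Basic
import Mathlib

/-!
# The length of `Hom(I, R/J)` over a two-dimensional regular local ring
-/

set_option autoImplicit false
set_option linter.style.haveILetI false

universe u

namespace Groth.Agent.LinkLen6

open IsLocalRing

variable {R : Type u} [CommRing R]

theorem exists_pow_le [IsLocalRing R] [IsNoetherianRing R] (I : Ideal R)
    (hI : Module.length R (R ⧸ I) < ⊤) : ∃ N : ℕ, 0 < N ∧ maximalIdeal R ^ N ≤ I := by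
  haveI : IsArtinian R (R ⧸ I) :=
    (isFiniteLength_iff_isNoetherian_isArtinian.1 (Module.length_ne_top_iff.1 hI.ne)).2
  obtain ⟨n, hn⟩ := IsArtinian.monotone_stabilizes (R := R) (M := R ⧸ I)
    ⟨fun n => OrderDual.toDual (maximalIdeal R ^ n • ⊤ : Submodule R (R ⧸ I)),
      fun a b h => Submodule.smul_mono (Ideal.pow_le_pow_right h) le_rfl⟩
  have h1 : (maximalIdeal R ^ n • ⊤ : Submodule R (R ⧸ I)) ≤
      maximalIdeal R • (maximalIdeal R ^ n • ⊤) := by
    rw [← Submodule.smul_assoc, smul_eq_mul, ← pow_succ']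
    exact le_of_eq (congrArg OrderDual.ofDual (hn (n + 1) n.le_succ))
  have h2 := Submodule.eq_bot_of_le_smul_of_le_jacobson_bot _ _ (IsNoetherian.noetherian _) h1
    (maximalIdeal_le_jacobson _)
  refine ⟨n + 1, n.succ_pos, fun x hx => Ideal.Quotient.eq_zero_iff_mem.1 ?_⟩
  have : x • (1 : R ⧸ I) ∈ (maximalIdeal R ^ n • ⊤ : Submodule R (R ⧸ I)) :=
    Submodule.smul_mem_smul (Ideal.pow_le_pow_right n.le_succ hx) trivial
  rw [h2, Submodule.mem_bot, Algebra.smul_def, mul_one] at this
  exact this

/-- A regular sequence of length two inside an ideal of finite colength. -/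
theorem exists_regular_pair [IsRegularLocalRing R] (hdim : ringKrullDim R = 2) (I : Ideal R)
    (hI : Module.length R (R ⧸ I) < ⊤) :
    ∃ a b : R, a ∈ I ∧ b ∈ I ∧ a ∈ maximalIdeal R ∧ b ∈ maximalIdeal R ∧
      RingTheory.Sequence.IsWeaklyRegular R [a, b] ∧ IsArtinianRing (R ⧸ Ideal.ofList [a, b]) := by
  obtain ⟨N, hN, hNI⟩ := exists_pow_le I hI
  obtain ⟨k, hk⟩ := GDepth6.exists_min_gens (IsNoetherian.noetherian (maximalIdeal R))
  have h2 : (maximalIdeal R).spanFinrank = 2 := by
    have := (IsRegularLocalRing.spanFinrank_maximalIdeal (R := R)).trans hdim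
    exact_mod_cast this
  let x := k (Fin.cast h2.symm 0)
  let y := k (Fin.cast h2.symm 1)
  have hxm : x ∈ maximalIdeal R := hk ▸ Ideal.subset_span ⟨_, rfl⟩
  have hym : y ∈ maximalIdeal R := hk ▸ Ideal.subset_span ⟨_, rfl⟩
  let c := Ideal.ofList [x ^ N, y ^ N]
  have hcm : c ≤ maximalIdeal R := Ideal.span_le.2 (by
    intro z hz
    have hz' : z = x ^ N ∨ z = y ^ N := by simpa using hz
    rcases hz' with rfl | rfl
    exacts [Ideal.pow_mem_of_mem _ hxm N hN, Ideal.pow_mem_of_mem _ hym N hN])
  have hxc : x ^ N ∈ c := Ideal.subset_span (by simp)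
  have hyc : y ^ N ∈ c := Ideal.subset_span (by simp)
  have hzero : Ring.KrullDimLE 0 (R ⧸ c) := Ring.KrullDimLE.mk₀ fun P hP => by
    have hP' : (P.comap (Ideal.Quotient.mk c)).IsPrime := hP.comap _
    have hcP : c ≤ P.comap (Ideal.Quotient.mk c) := fun z hz => by
      rw [Ideal.mem_comap, Ideal.Quotient.eq_zero_iff_mem.2 hz]; exact P.zero_mem
    have hle : maximalIdeal R ≤ P.comap (Ideal.Quotient.mk c) := by
      rw [← hk, Ideal.span_le]
      rintro _ ⟨i, rfl⟩
      obtain ⟨j, rfl⟩ : ∃ j : Fin 2, Fin.cast h2.symm j = i := ⟨Fin.cast h2 i, by simp⟩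
      fin_cases j
      · exact hP'.mem_of_pow_mem N (hcP hxc)
      · exact hP'.mem_of_pow_mem N (hcP hyc)
    have hmax : (P.comap (Ideal.Quotient.mk c)).IsMaximal := by
      rw [← (maximalIdeal.isMaximal R).eq_of_le hP'.ne_top hle]
      exact maximalIdeal.isMaximal R
    exact Ideal.map_comap_of_surjective (Ideal.Quotient.mk c) Ideal.Quotient.mk_surjective P ▸
      Ideal.IsMaximal.map_of_surjective_of_ker_le Ideal.Quotient.mk_surjective
        (by rw [Ideal.mk_ker]; exact hcP)
  haveI : Nontrivial (R ⧸ c) :=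
    Ideal.Quotient.nontrivial_iff.2 (ne_top_of_le_ne_top (maximalIdeal.isMaximal R).ne_top hcm)
  refine ⟨x ^ N, y ^ N, hNI (Ideal.pow_mem_pow hxm N), hNI (Ideal.pow_mem_pow hym N),
    Ideal.pow_mem_of_mem _ hxm N hN, Ideal.pow_mem_of_mem _ hym N hN, ?_,
    IsNoetherianRing.isArtinianRing_of_krullDimLE_zero⟩
  refine CotTLib.isWeaklyRegular_of_dim _ (fun r hr => hcm (Ideal.subset_span hr)) ?_
  rw [ringKrullDimZero_iff_ringKrullDim_eq_zero.1 hzero, hdim]
  rfl

variable {F : Type u} [AddCommGroup F] [Module R F]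

/-- The dual of the kernel of `F ↠ I` modulo restrictions, read in `R ⧸ (a, b)`. -/
theorem exists_link_map [IsDomain R] [Module.Free R F] (I : Ideal R) (π : F →ₗ[R] R)
    (hπ : LinearMap.range π = I) (a b : R) (haI : a ∈ I) (hbI : b ∈ I)
    (hreg : RingTheory.Sequence.IsWeaklyRegular R [a, b]) :
    ∃ δ : (↥(LinearMap.ker π) →ₗ[R] R) →ₗ[R] R ⧸ Ideal.ofList [a, b],
      LinearMap.ker δ = LinearMap.range (LinearMap.lcomp R R (LinearMap.ker π).subtype) ∧
      ∀ z, z ∈ LinearMap.range δ ↔
        ∀ i ∈ I, i • z = 0 := by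
  classical
  have hreg' := (RingTheory.Sequence.isWeaklyRegular_cons_iff R a [b]).1 hreg
  have ha : IsSMulRegular R a := hreg'.1
  have hb : ∀ z, b * z ∈ Ideal.span {a} → z ∈ Ideal.span {a} := by
    have h2 := ((RingTheory.Sequence.isWeaklyRegular_cons_iff _ b []).1 hreg'.2).1
    intro z hz
    obtain ⟨w, hw⟩ := Ideal.mem_span_singleton'.1 hz
    have h3 := h2 (a₁ := Submodule.Quotient.mk z) (a₂ := 0) (by
      show b • Submodule.Quotient.mk z = b • 0
      rw [smul_zero, ← Submodule.Quotient.mk_smul, Submodule.Quotient.mk_eq_zero]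
      exact Submodule.mem_smul_pointwise_iff_exists _ _ _ |>.2 ⟨w, trivial, by
        rw [smul_eq_mul, smul_eq_mul, mul_comm a w, hw]⟩)
    rw [Submodule.Quotient.mk_eq_zero, Submodule.mem_smul_pointwise_iff_exists] at h3
    obtain ⟨y, -, hy⟩ := h3
    exact Ideal.mem_span_singleton'.2 ⟨y, by rw [mul_comm, ← smul_eq_mul, hy]⟩
  let c := Ideal.ofList [a, b]
  have hac : a ∈ c := Ideal.subset_span (by simp)
  have hbc : b ∈ c := Ideal.subset_span (by simp)
  have hc : ∀ z ∈ c, ∃ s t, z = a * s + b * t := fun z hz => by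
    have hz' : z ∈ Ideal.span ({a, b} : Set R) := by
      refine Ideal.span_mono ?_ hz
      intro w hw
      simpa using hw
    obtain ⟨s, t, hst⟩ := Ideal.mem_span_pair.1 hz'
    exact ⟨s, t, by rw [← hst]; ring⟩
  obtain ⟨fa, hfa⟩ : ∃ f, π f = a := by rw [← hπ] at haI; exact haI
  obtain ⟨fb, hfb⟩ : ∃ f, π f = b := by rw [← hπ] at hbI; exact hbI
  let v : LinearMap.ker π := ⟨b • fa - a • fb, by
    rw [LinearMap.mem_ker, map_sub, map_smul, map_smul, hfa, hfb, smul_eq_mul, smul_eq_mul, mul_comm, sub_self]⟩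
  let δ : (↥(LinearMap.ker π) →ₗ[R] R) →ₗ[R] R ⧸ c :=
    (Submodule.mkQ c).comp (LinearMap.applyₗ (R := R) v)
  have hδ : ∀ g, δ g = Ideal.Quotient.mk c (g v) := fun g => rfl
  refine ⟨δ, le_antisymm ?_ ?_, fun z => ⟨?_, ?_⟩⟩
  · -- the kernel consists of restrictions
    intro g hg
    rw [LinearMap.mem_ker, hδ, Ideal.Quotient.eq_zero_iff_mem] at hg
    obtain ⟨s, t, hst⟩ := hc _ hg
    let k : F → LinearMap.ker π := fun f => ⟨π f • fa - a • f, by
      rw [LinearMap.mem_ker, map_sub, map_smul, map_smul, hfa, smul_eq_mul, smul_eq_mul, mul_comm, sub_self]⟩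
    let k' : F → LinearMap.ker π := fun f => ⟨π f • fb - b • f, by
      rw [LinearMap.mem_ker, map_sub, map_smul, map_smul, hfb, smul_eq_mul, smul_eq_mul, mul_comm, sub_self]⟩
    have hN : ∀ f, π f * t - g (k f) ∈ Ideal.span {a} := fun f => by
      refine hb _ ?_
      have h1 : b • k f = π f • v + a • k' f := Subtype.ext (by
        show b • (π f • fa - a • f) = π f • (b • fa - a • fb) + a • (π f • fb - b • f)
        module)
      have h2 := congrArg g h1
      rw [map_smul, map_add, map_smul, map_smul, smul_eq_mul, smul_eq_mul, smul_eq_mul, hst] at h2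
      exact Ideal.mem_span_singleton'.2 ⟨-(π f * s + g (k' f)), by linear_combination h2⟩
    choose q hq using fun f => Ideal.mem_span_singleton'.1 (hN f)
    have hcancel : ∀ x y : R, a * x = a * y → x = y := fun x y h => ha h
    let h0 : F →ₗ[R] R :=
      { toFun := q
        map_add' := fun f f' => hcancel _ _ (by
          have hk : k (f + f') = k f + k f' := Subtype.ext (by
            show π (f + f') • fa - a • (f + f') = (π f • fa - a • f) + (π f' • fa - a • f')
            rw [map_add]; module)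
          have h1 := hq (f + f')
          have h2 := hq f
          have h3 := hq f'
          rw [hk, map_add, map_add] at h1
          linear_combination h1 - h2 - h3)
        map_smul' := fun r f => hcancel _ _ (by
          have hk : k (r • f) = r • k f := Subtype.ext (by
            show π (r • f) • fa - a • (r • f) = r • (π f • fa - a • f)
            rw [map_smul, smul_eq_mul]; module)
          have h1 := hq (r • f)
          have h2 := hq f
          rw [hk, map_smul, map_smul, smul_eq_mul, smul_eq_mul] at h1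
          rw [RingHom.id_apply, smul_eq_mul]
          linear_combination h1 - r * h2) }
    refine ⟨h0, LinearMap.ext fun w => hcancel _ _ ?_⟩
    show a * q w.1 = a * g w
    have h1 := hq w.1
    have hkw : k w.1 = -(a • w) := Subtype.ext (by
      show π w.1 • fa - a • w.1 = -(a • w.1)
      rw [show π w.1 = 0 from w.2, zero_smul, zero_sub])
    rw [hkw, map_neg, map_smul, show π w.1 = 0 from w.2, smul_eq_mul] at h1
    linear_combination h1
  · rintro _ ⟨h, rfl⟩
    rw [LinearMap.mem_ker, hδ, Ideal.Quotient.eq_zero_iff_mem]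
    show h (b • fa - a • fb) ∈ c
    rw [map_sub, map_smul, map_smul]
    exact sub_mem (c.mul_mem_right _ hbc) (c.mul_mem_right _ hac)
  · rintro ⟨g, rfl⟩ i hi
    obtain ⟨fi, hfi⟩ : ∃ f, π f = i := by rw [← hπ] at hi; exact hi
    let ka : LinearMap.ker π := ⟨i • fa - a • fi, by
      rw [LinearMap.mem_ker, map_sub, map_smul, map_smul, hfa, hfi, smul_eq_mul, smul_eq_mul, mul_comm, sub_self]⟩
    let kb : LinearMap.ker π := ⟨i • fb - b • fi, by
      rw [LinearMap.mem_ker, map_sub, map_smul, map_smul, hfb, hfi, smul_eq_mul, smul_eq_mul, mul_comm, sub_self]⟩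
    have h1 : i • v = b • ka - a • kb := Subtype.ext (by
      show i • (b • fa - a • fb) = b • (i • fa - a • fi) - a • (i • fb - b • fi)
      module)
    rw [hδ, ← Ideal.Quotient.mkₐ_eq_mk R, ← map_smul, ← map_smul, h1, map_sub, map_smul, map_smul,
      Ideal.Quotient.mkₐ_eq_mk, Ideal.Quotient.eq_zero_iff_mem]
    exact sub_mem (c.mul_mem_right _ hbc) (c.mul_mem_right _ hac)
  · intro hz
    obtain ⟨p, rfl⟩ := Ideal.Quotient.mk_surjective z
    let B := Module.Free.chooseBasis R F
    have hp : ∀ j, ∃ s t, π (B j) * p = a * s + b * t := fun j => hc _ (by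
      rw [← Ideal.Quotient.eq_zero_iff_mem, map_mul]
      exact (Algebra.smul_def (π (B j)) (Ideal.Quotient.mk c p)).symm.trans
        (hz _ (hπ ▸ ⟨B j, rfl⟩)))
    choose s t hst using hp
    let X := B.constr R s
    let Y := B.constr R t
    have hXY : ∀ f, a * X f + b * Y f = π f * p := fun f => by
      refine LinearMap.congr_fun (B.ext (f₁ := a • X + b • Y) (f₂ := p • π) fun j => ?_) f |>.trans ?_
      · simp [X, Y, hst, mul_comm p]
      · simp [mul_comm p]
    have hY : ∀ w : LinearMap.ker π, ∃ y, a * y = Y w.1 := fun w => by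
      have h1 := hXY w.1
      rw [show π w.1 = 0 from w.2, zero_mul] at h1
      obtain ⟨y, hy⟩ := Ideal.mem_span_singleton'.1 (hb (Y w.1)
        (Ideal.mem_span_singleton'.2 ⟨-X w.1, by linear_combination -h1⟩))
      exact ⟨y, by rw [← hy, mul_comm]⟩
    choose y hy using hY
    have hcancel : ∀ x y : R, a * x = a * y → x = y := fun x y h => ha h
    let g : LinearMap.ker π →ₗ[R] R :=
      { toFun := fun w => - y w
        map_add' := fun w w' => hcancel _ _ (by
          have := hy (w + w')
          rw [Submodule.coe_add, map_add, ← hy, ← hy] at this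
          linear_combination -this)
        map_smul' := fun r w => hcancel _ _ (by
          have := hy (r • w)
          rw [Submodule.coe_smul, map_smul, ← hy, smul_eq_mul] at this
          rw [RingHom.id_apply, smul_eq_mul]
          linear_combination -this) }
    refine ⟨g, ?_⟩
    rw [hδ, Ideal.Quotient.eq]
    obtain ⟨s₁, hs₁⟩ := Ideal.mem_span_singleton'.1 (hb (Y fa) (Ideal.mem_span_singleton'.2
      ⟨p - X fa, by have := hXY fa; rw [hfa] at this; linear_combination -this⟩))
    obtain ⟨s₂, hs₂⟩ := Ideal.mem_span_singleton'.1 (hb (p - Y fb) (Ideal.mem_span_singleton'.2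
      ⟨X fb, by have := hXY fb; rw [hfb] at this; linear_combination this⟩))
    have h1 : a * y v = a * (b * s₁ - p + a * s₂) := by
      rw [hy]
      show Y (b • fa - a • fb) = _
      rw [map_sub, map_smul, map_smul, smul_eq_mul, smul_eq_mul]
      linear_combination -b * hs₁ - a * hs₂
    show - y v - p ∈ c
    rw [hcancel _ _ h1, show -(b * s₁ - p + a * s₂) - p = -(b * s₁ + a * s₂) by ring]
    exact neg_mem (add_mem (c.mul_mem_right _ hbc) (c.mul_mem_right _ hac))

theorem length_hom_free {M : Type u} [AddCommGroup M] [Module R M] {P : Type u} [AddCommGroup P] [Module R P]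
    [Module.Free R P] [Module.Finite R P] [Nontrivial R] :
    Module.length R (P →ₗ[R] M) = Module.finrank R P * Module.length R M := by
  rw [← ((Module.finBasis R P).constr R (M' := M)).length_eq]
  simp

theorem ker_comp_mkQ (J : Ideal R) (P : Type u) [AddCommGroup P] [Module R P] [Module.Free R P] [Module.Finite R P] :
    LinearMap.ker (LinearMap.llcomp R P R (R ⧸ J) (Submodule.mkQ J)) = J • (⊤ : Submodule R (P →ₗ[R] R)) := by
  classical
  refine le_antisymm (fun g hg => ?_) (Submodule.smul_le.2 fun j hj g _ => ?_)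
  · let B := Module.Free.chooseBasis R P
    have hgJ : ∀ p, g p ∈ J := fun p => by
      have := LinearMap.congr_fun (LinearMap.mem_ker.1 hg) p
      simpa [Submodule.Quotient.mk_eq_zero, Ideal.Quotient.eq_zero_iff_mem] using this
    rw [show g = ∑ i, g (B i) • B.coord i from B.ext fun j => by
      simp [LinearMap.sum_apply, Finsupp.single_apply]]
    exact Submodule.sum_mem _ fun i _ => Submodule.smul_mem_smul (hgJ _) trivial
  · rw [LinearMap.mem_ker]
    refine LinearMap.ext fun p => ?_
    show Submodule.Quotient.mk (j • g p) = (0 : R ⧸ J)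
    rw [Submodule.Quotient.mk_eq_zero]
    exact J.mul_mem_right _ hj

theorem length_quot_map (c X : Ideal R) (h : c ≤ X) :
    Module.length (R ⧸ c) ((R ⧸ c) ⧸ X.map (Ideal.Quotient.mk c)) = Module.length R (R ⧸ X) := by
  have h1 := Module.length_eq_of_surjective (S := R) (R := R ⧸ c)
    (M := (R ⧸ c) ⧸ X.map (Ideal.Quotient.mk c)) Ideal.Quotient.mk_surjective
  exact h1.symm.trans (DoubleQuot.quotQuotEquivQuotOfLEₐ R h).toLinearEquiv.length_eq

theorem length_hom_add [IsRegularLocalRing R] (hdim : ringKrullDim R = 2) (I J : Ideal R)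
    (hI : Module.length R (R ⧸ I) < ⊤) (hJ : Module.length R (R ⧸ J) < ⊤) :
    Module.length R (↥I →ₗ[R] (R ⧸ J)) + Module.length R (R ⧸ I.colon (J : Set R)) =
      Module.length R (R ⧸ J) + Module.length R (R ⧸ I) := by
  classical
  haveI := RegLoc6.isDomain_of_isRegularLocalRing R
  obtain ⟨a, b, haI, hbI, ham, hbm, hreg, hart⟩ := exists_regular_pair hdim I hI
  let c := Ideal.ofList [a, b]
  let Q := R ⧸ c
  haveI : IsArtinianRing Q := hart
  haveI := LC.gorenstein_of_isRegularLocalRing (R := R)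
  have hmem : ∀ r ∈ [a, b], r ∈ maximalIdeal R := fun r hr => by
    have hr' : r = a ∨ r = b := by simpa using hr
    rcases hr' with rfl | rfl <;> assumption
  haveI : LocCoh.IsGorensteinLocalRing Q := LC.gorenstein_quotient_ofList [a, b] hmem hreg
  haveI : IsLocalRing Q := LocCoh.IsGorensteinLocalRing.toIsLocalRing
  have hcI : c ≤ I := Ideal.span_le.2 fun r hr => by
    have hr' : r = a ∨ r = b := by simpa using hr
    rcases hr' with rfl | rfl <;> assumption
  -- the resolution
  obtain ⟨m, f, hf⟩ := Submodule.fg_iff_exists_fin_generating_family.1 (IsNoetherian.noetherian I)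
  let π : (Fin m → R) →ₗ[R] R := Fintype.linearCombination R f
  have hπ : LinearMap.range π = I := by rw [Fintype.range_linearCombination]; exact hf
  let K := LinearMap.ker π
  haveI : Module.Projective R K :=
    CoefLib.projective_ker_local hdim.le K.subtype π K.subtype_injective (LinearMap.exact_subtype_ker_map π)
  haveI : Module.Free R K := Module.free_of_flat_of_isLocalRing
  let πI : (Fin m → R) →ₗ[R] I := π.codRestrict I fun x => hπ ▸ ⟨x, rfl⟩
  have hπI : Function.Surjective πI := fun i => by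
    obtain ⟨x, hx⟩ : i.1 ∈ LinearMap.range π := hπ.symm ▸ i.2
    exact ⟨x, Subtype.ext hx⟩
  have hKI : LinearMap.ker πI = K := LinearMap.ker_codRestrict _ _ _
  have hrank : Module.finrank R (Fin m → R) = Module.finrank R K + 1 := by
    have h1 := Submodule.finrank_quotient_add_finrank K
    rw [LinearEquiv.finrank_eq ((Submodule.quotEquivOfEq _ _ hKI.symm).trans (πI.quotKerEquivOfSurjective hπI))] at h1
    haveI : Nontrivial I := Submodule.nontrivial_iff_ne_bot.2 fun h => by
      rw [h] at haI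
      have := (RingTheory.Sequence.isWeaklyRegular_cons_iff R a [b]).1 hreg |>.1
      rw [Ideal.mem_bot] at haI
      exact zero_ne_one (α := R) (this (by simp [haI]))
    have h2 : Module.finrank R I ≤ 1 := (Submodule.finrank_le I).trans (Module.finrank_self R).le
    have h3 : 0 < Module.finrank R I := Module.finrank_pos
    omega
  let M := R ⧸ J
  let res : ((Fin m → R) →ₗ[R] M) →ₗ[R] (K →ₗ[R] M) := LinearMap.lcomp R M K.subtype
  let resR : ((Fin m → R) →ₗ[R] R) →ₗ[R] (K →ₗ[R] R) := LinearMap.lcomp R R K.subtype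
  let j : (I →ₗ[R] M) →ₗ[R] ((Fin m → R) →ₗ[R] M) := LinearMap.lcomp R M πI
  have hj : Function.Injective j := fun φ ψ h => LinearMap.ext fun i => by
    obtain ⟨x, rfl⟩ := hπI i
    exact LinearMap.congr_fun h x
  have hjr : Function.Exact j res.rangeRestrict := fun h => by
    constructor
    · intro hh
      have h0 : ∀ w : K, h w.1 = 0 := fun w => LinearMap.congr_fun (congrArg Subtype.val hh) w
      have hle : LinearMap.ker πI ≤ LinearMap.ker h := fun x hx => h0 ⟨x, hKI.le hx⟩
      refine ⟨((LinearMap.ker πI).liftQ h hle).comp (πI.quotKerEquivOfSurjective hπI).symm.toLinearMap,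
        LinearMap.ext fun x => ?_⟩
      show (LinearMap.ker πI).liftQ h hle ((πI.quotKerEquivOfSurjective hπI).symm (πI x)) = h x
      rw [show (πI.quotKerEquivOfSurjective hπI).symm (πI x) = Submodule.Quotient.mk x from
        (πI.quotKerEquivOfSurjective hπI).injective (by rw [LinearEquiv.apply_symm_apply]; rfl)]
      rfl
    · rintro ⟨φ, rfl⟩
      refine Subtype.ext (LinearMap.ext fun w => ?_)
      show φ (πI w.1) = 0
      rw [show πI w.1 = 0 from Subtype.ext w.2, map_zero]
  let Rg : Submodule R (K →ₗ[R] M) := LinearMap.range res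
  have hl1 := Module.length_eq_add_of_exact (P := Rg) j res.rangeRestrict hj res.surjective_rangeRestrict hjr
  have hl2 := Module.length_eq_add_of_exact (N := Rg) (M := K →ₗ[R] M) Rg.subtype Rg.mkQ
    Rg.subtype_injective Rg.mkQ_surjective (LinearMap.exact_subtype_mkQ Rg)
  -- the cokernel read in `Q`
  obtain ⟨δ, hδk, hδr⟩ := exists_link_map I π hπ a b haI hbI hreg
  let D : Submodule R (K →ₗ[R] R) := LinearMap.ker δ ⊔ J • ⊤
  let Ψ : (K →ₗ[R] R) →ₗ[R] (K →ₗ[R] M) := LinearMap.llcomp R K R M (Submodule.mkQ J)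
  have hΨ : Function.Surjective Ψ := fun φ => by
    obtain ⟨g, hg⟩ := Module.projective_lifting_property (Submodule.mkQ J) φ (Submodule.mkQ_surjective J)
    exact ⟨g, hg⟩
  have hD : LinearMap.ker ((LinearMap.range res).mkQ.comp Ψ) = D := by
    rw [LinearMap.ker_comp, Submodule.ker_mkQ]
    refine le_antisymm (fun g hg => ?_) (sup_le ?_ ?_)
    · obtain ⟨h, hh⟩ := hg
      obtain ⟨h', hh'⟩ := Module.projective_lifting_property (Submodule.mkQ J) h (Submodule.mkQ_surjective J)
      refine Submodule.mem_sup.2 ⟨resR h', hδk ▸ ⟨h', rfl⟩, g - resR h', ?_, add_sub_cancel _ _⟩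
      have hz : g - resR h' ∈ LinearMap.ker Ψ := by
        rw [LinearMap.mem_ker, map_sub, sub_eq_zero, ← hh, ← hh']
        rfl
      rwa [ker_comp_mkQ] at hz
    · rw [hδk]
      rintro _ ⟨h, rfl⟩
      exact ⟨(Submodule.mkQ J).comp h, rfl⟩
    · rw [← ker_comp_mkQ]
      intro g hg
      show Ψ g ∈ LinearMap.range res
      rw [show Ψ g = 0 from hg]
      exact Submodule.zero_mem _
  have hC : Module.length R ((K →ₗ[R] R) ⧸ D) = Module.length R ((K →ₗ[R] M) ⧸ LinearMap.range res) :=
    ((Submodule.quotEquivOfEq _ _ hD.symm).trans (LinearMap.quotKerEquivOfSurjective _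
      ((Submodule.mkQ_surjective _).comp hΨ))).length_eq
  let η : LinearMap.range δ →ₗ[R] ((K →ₗ[R] R) ⧸ D) :=
    (Submodule.factor (le_sup_left : LinearMap.ker δ ≤ D)).comp δ.quotKerEquivRange.symm.toLinearMap
  have hη : Function.Surjective η :=
    (Submodule.factor_surjective (le_sup_left : LinearMap.ker δ ≤ D)).comp δ.quotKerEquivRange.symm.surjective
  let Jr : Submodule R Q := J • LinearMap.range δ
  have hJr : Jr ≤ LinearMap.range δ := Submodule.smul_le_right
  have hηmk : ∀ g, η ⟨δ g, ⟨g, rfl⟩⟩ = Submodule.Quotient.mk g := fun g => by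
    show Submodule.factor (le_sup_left : LinearMap.ker δ ≤ D) (δ.quotKerEquivRange.symm ⟨δ g, ⟨g, rfl⟩⟩) = _
    rw [LinearMap.quotKerEquivRange_symm_apply_image]
    rfl
  have hex : Function.Exact (Submodule.inclusion hJr) η := by
    rintro ⟨_, g, rfl⟩
    rw [hηmk, Submodule.Quotient.mk_eq_zero]
    constructor
    · intro hg
      obtain ⟨g₁, hg₁, g₂, hg₂, rfl⟩ := Submodule.mem_sup.1 hg
      refine ⟨⟨δ g₂, ?_⟩, Subtype.ext ?_⟩
      · show δ g₂ ∈ J • LinearMap.range δ
        rw [LinearMap.range_eq_map, ← Submodule.map_smul'']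
        exact ⟨g₂, hg₂, rfl⟩
      · show δ g₂ = δ (g₁ + g₂)
        rw [map_add, show δ g₁ = 0 from hg₁, zero_add]
    · rintro ⟨⟨z, hz⟩, hzg⟩
      have hz' : z = δ g := congrArg Subtype.val hzg
      subst hz'
      change δ g ∈ J • LinearMap.range δ at hz
      rw [LinearMap.range_eq_map, ← Submodule.map_smul''] at hz
      obtain ⟨g₂, hg₂, he⟩ := hz
      refine Submodule.mem_sup.2 ⟨g - g₂, ?_, g₂, hg₂, sub_add_cancel _ _⟩
      rw [LinearMap.mem_ker, map_sub, he, sub_self]
  have hl3 := Module.length_eq_add_of_exact (Submodule.inclusion hJr) η (Submodule.inclusion_injective hJr) hη hex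
  -- duality
  let Iq : Ideal Q := I.map (Ideal.Quotient.mk c)
  let Jq : Ideal Q := J.map (Ideal.Quotient.mk c)
  let W : Ideal Q := (⊥ : Ideal Q).colon (Iq : Set Q)
  have hmapI : ∀ z, z ∈ W ↔ ∀ i ∈ I, i • z = 0 := fun z => by
    rw [Submodule.mem_colon]
    constructor
    · intro h i hi
      have := (Submodule.mem_bot Q).1 (h _ (Ideal.mem_map_of_mem _ hi))
      rwa [Algebra.smul_def, mul_comm, Ideal.Quotient.algebraMap_eq, ← smul_eq_mul]
    · intro h y hy
      obtain ⟨i, hi, rfl⟩ := (Ideal.mem_map_iff_of_surjective _ Ideal.Quotient.mk_surjective).1 hy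
      rw [Submodule.mem_bot, smul_eq_mul, mul_comm, ← Ideal.Quotient.algebraMap_eq, ← Algebra.smul_def]
      exact h i hi
  have hW : LinearMap.range δ = W.restrictScalars R := Submodule.ext fun z => (hδr z).trans (hmapI z).symm
  have hJW : Jr = (Jq * W).restrictScalars R := by
    show J • LinearMap.range δ = _
    rw [hW]
    refine le_antisymm (Submodule.smul_le.2 fun r hr z hz => ?_) fun z hz => ?_
    · rw [Submodule.restrictScalars_mem, Algebra.smul_def]
      exact Ideal.mul_mem_mul (Ideal.mem_map_of_mem _ hr) hz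
    · rw [Submodule.restrictScalars_mem] at hz
      refine Submodule.mul_induction_on hz (fun x hx w hw => ?_) fun x y hx hy => add_mem hx hy
      obtain ⟨r, hr, rfl⟩ := (Ideal.mem_map_iff_of_surjective _ Ideal.Quotient.mk_surjective).1 hx
      rw [← Ideal.Quotient.algebraMap_eq, ← Algebra.smul_def]
      exact Submodule.smul_mem_smul hr hw
  have hsurj : Function.Surjective (algebraMap R Q) := Ideal.Quotient.mk_surjective
  have hQlen : ∀ X : Ideal Q, Module.length R (X.restrictScalars R) = Module.length Q X := fun X =>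
    (({ toFun := fun x => ⟨x.1, x.2⟩, invFun := fun x => ⟨x.1, x.2⟩, map_add' := fun _ _ => rfl, map_smul' := fun _ _ => rfl } :
      (X.restrictScalars R) ≃ₗ[R] X).length_eq).trans (Module.length_eq_of_surjective (S := R) hsurj)
  have hquot : ∀ (X : Ideal R), c ≤ X →
      Module.length Q (Q ⧸ X.map (Ideal.Quotient.mk c)) = Module.length R (R ⧸ X) :=
    fun X hX => length_quot_map c X hX
  have hlW : Module.length R (LinearMap.range δ) = Module.length R (R ⧸ I) := by
    rw [(LinearEquiv.ofEq _ _ hW).length_eq, hQlen, length_ann, hquot I hcI]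
  have hlJW : Module.length R Jr = Module.length R (R ⧸ I.colon (J : Set R)) := by
    rw [(LinearEquiv.ofEq _ _ hJW).length_eq, hQlen]
    conv_lhs => rw [← ann_ann Q (Jq * W)]
    rw [length_ann]
    have hcc : c ≤ I.colon (J : Set R) := fun r hr => Submodule.mem_colon.2 fun s _ => I.mul_mem_right _ (hcI hr)
    rw [← hquot _ hcc]
    refine LinearEquiv.length_eq (Submodule.quotEquivOfEq _ _ (Submodule.ext fun q => ?_))
    obtain ⟨r, rfl⟩ := Ideal.Quotient.mk_surjective q
    rw [Ideal.mem_quotient_iff_mem hcc, Submodule.mem_colon, Submodule.mem_colon]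
    constructor
    · intro h s hs
      rw [← Ideal.mem_quotient_iff_mem hcI, ← ann_ann Q (I.map (Ideal.Quotient.mk c)), Submodule.mem_colon]
      intro w hw
      rw [smul_eq_mul r s, smul_eq_mul, map_mul, mul_assoc, ← smul_eq_mul]
      exact h _ (Ideal.mul_mem_mul (Ideal.mem_map_of_mem _ hs) hw)
    · intro h z hz
      rw [Submodule.mem_bot]
      refine Submodule.mul_induction_on hz (fun x hx w hw => ?_) fun x y hx hy => by rw [smul_add, hx, hy, add_zero]
      obtain ⟨s, hs, rfl⟩ := (Ideal.mem_map_iff_of_surjective _ Ideal.Quotient.mk_surjective).1 hx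
      have h5 : r * s ∈ I := h s hs
      have h6 := (Submodule.mem_bot Q).1 (Submodule.mem_colon.1 hw _ (Ideal.mem_map_of_mem _ h5))
      rw [smul_eq_mul, map_mul] at h6
      rw [smul_eq_mul, ← mul_assoc, mul_comm, h6]
  rw [hlW, hlJW] at hl3
  rw [hC] at hl3
  -- lengths are finite
  rw [length_hom_free] at hl1 hl2
  rw [hrank, Nat.cast_add, Nat.cast_one, add_mul, one_mul] at hl1
  obtain ⟨lM, hlM⟩ : ∃ l : ℕ, Module.length R M = (l : ℕ∞) := ENat.ne_top_iff_exists.1 hJ.ne |>.imp fun l h => h.symm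
  obtain ⟨lI, hlI⟩ : ∃ l : ℕ, Module.length R (R ⧸ I) = (l : ℕ∞) := ENat.ne_top_iff_exists.1 hI.ne |>.imp fun l h => h.symm
  have e1 : Module.length R (↥I →ₗ[R] M) + Module.length R Rg ≠ ⊤ := by
    rw [← hl1, hlM]
    exact_mod_cast ENat.natCast_ne_top (Module.finrank R K * lM + lM)
  have e2 : Module.length R Rg + Module.length R ((K →ₗ[R] M) ⧸ Rg) ≠ ⊤ := by
    rw [← hl2, hlM]
    exact_mod_cast ENat.natCast_ne_top (Module.finrank R K * lM)
  have e3 : Module.length R (R ⧸ I.colon (J : Set R)) + Module.length R ((K →ₗ[R] M) ⧸ Rg) ≠ ⊤ := by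
    refine ne_of_eq_of_ne hl3.symm ?_
    rw [hlI]
    exact ENat.natCast_ne_top _
  obtain ⟨lH, hlH⟩ := ENat.ne_top_iff_exists.1 (WithTop.add_ne_top.1 e1).1
  obtain ⟨lr, hlr⟩ := ENat.ne_top_iff_exists.1 (WithTop.add_ne_top.1 e2).1
  obtain ⟨lC, hlC⟩ := ENat.ne_top_iff_exists.1 (WithTop.add_ne_top.1 e2).2
  obtain ⟨lc, hlc⟩ := ENat.ne_top_iff_exists.1 (WithTop.add_ne_top.1 e3).1
  have h1' : Module.finrank R K * lM + lM = lH + lr := by
    rw [hlM, ← hlH, ← hlr] at hl1
    exact_mod_cast hl1
  have h2' : Module.finrank R K * lM = lr + lC := by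
    rw [hlM, ← hlr, ← hlC] at hl2
    exact_mod_cast hl2
  have h3' : lI = lc + lC := by
    have h := hl3
    rw [hlI, ← hlc, show Module.length R ((K →ₗ[R] M) ⧸ LinearMap.range res) = (lC : ℕ∞) from hlC.symm] at h
    exact ENat.coe_inj.1 h
  show Module.length R (↥I →ₗ[R] M) + _ = Module.length R M + _
  rw [← hlH, ← hlc, hlM, hlI]
  exact_mod_cast (by omega : lH + lc = lM + lI)

end Groth.Agent.LinkLen6
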